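import Mathlib.RingTheory.MvPowerSeries.Equiv
import Mathlib.RingTheory.Smooth.Basic
import Mathlib.RingTheory.Ideal.Cotangent
import Mathlib.RingTheory.Nilpotent.Basic
import Groth.Agent.Algebraize7.CompletionEquiv

/-! The completion of a formally smooth algebra along a section. -/

set_option autoImplicit false
universe u

namespace SmoothSect

open MvPolynomial

/-- An endomorphism which raises a filtration degree when subtracting the identity is bijective. -/
theorem bijective_of_nilpotent_filtration {R Q : Type u} [CommRing R] [CommRing Q] [Algebra R Q]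
    (J : Ideal Q) (n : ℕ) (hn : J ^ n = ⊥) (h : Q →ₐ[R] Q)
    (h0 : ∀ q, h q - q ∈ J) (h1 : ∀ q ∈ J, h q - q ∈ J ^ 2) : Function.Bijective h := by
  have key : ∀ k, ∀ q ∈ J ^ k, h q - q ∈ J ^ (k + 1) := by
    intro k
    induction k with
    | zero => intro q _; simpa using h0 q
    | succ k ih =>
      intro q hq
      rw [pow_succ] at hq
      induction hq using Submodule.mul_induction_on' with
      | mem_mul_mem a ha b hb =>
        have hhb : h b ∈ J := by simpa using add_mem (h0 b) hb
        have : h (a * b) - a * b = (h a - a) * h b + a * (h b - b) := by rw [map_mul]; ring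
        rw [this]
        refine add_mem ?_ ?_
        · rw [pow_succ]; exact Ideal.mul_mem_mul (ih a ha) hhb
        · rw [show k + 1 + 1 = k + 2 by omega, pow_add]; exact Ideal.mul_mem_mul ha (h1 b hb)
      | add a _ b _ ha hb =>
        have : h (a + b) - (a + b) = (h a - a) + (h b - b) := by rw [map_add]; ring
        rw [this]; exact add_mem ha hb
  let D : Module.End R Q := h.toLinearMap - 1
  have hD : ∀ k q, (D ^ k) q ∈ J ^ k := by
    intro k
    induction k with
    | zero => intro q; simp
    | succ k ih => intro q; rw [pow_succ' D, Module.End.mul_apply]; exact key k _ (ih q)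
  have hnil : IsNilpotent D := ⟨n, LinearMap.ext fun q => by simpa [hn] using hD n q⟩
  have hu := hnil.isUnit_one_add
  rw [show 1 + D = h.toLinearMap by simp [D]] at hu
  exact (Module.End.isUnit_iff _).1 hu

theorem main {R S : Type u} [CommRing R] [CommRing S] [Algebra R S]
    [Algebra.FormallySmooth R S] (σ : S →ₐ[R] R) (d : ℕ)
    (e : (RingHom.ker σ.toRingHom).Cotangent ≃ₗ[R] (Fin d → R)) :
    Nonempty (AdicCompletion (RingHom.ker σ.toRingHom) S ≃ₐ[R] MvPowerSeries (Fin d) R) := by
  classical
  set I : Ideal S := RingHom.ker σ.toRingHom with hI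
  let J : Ideal (MvPolynomial (Fin d) R) := idealOfVars (Fin d) R
  have hσI : ∀ s : S, s - algebraMap R S (σ s) ∈ I := fun s => by
    simp [hI, RingHom.mem_ker]
  have hmemI : ∀ s : S, s ∈ I ↔ σ s = 0 := fun s => by simp [hI, RingHom.mem_ker]
  choose xI hxI using fun i : Fin d => I.toCotangent_surjective (e.symm (Pi.single i 1))
  let β : MvPolynomial (Fin d) R →ₐ[R] S := aeval fun i => (xI i : S)
  have hJI : J ≤ I.comap β := Ideal.span_le.2 (by
    rintro _ ⟨i, rfl⟩
    show β (X i) ∈ I
    simp [β])
  have hle : ∀ n, J ^ n ≤ (I ^ n).comap β := fun n =>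
    (Ideal.pow_right_mono hJI n).trans (Ideal.le_comap_pow _ n)
  let δ : S →ₗ[R] (Fin d → R) := e.toLinearMap ∘ₗ (I.toCotangent.restrictScalars R) ∘ₗ
    (LinearMap.codRestrict (I.restrictScalars R)
      (LinearMap.id - (Algebra.linearMap R S) ∘ₗ σ.toLinearMap) fun s => hσI s)
  have hδ : ∀ (s : S) (u : I), (u : S) = s - algebraMap R S (σ s) →
      δ s = e (I.toCotangent u) := fun s u hu => by
    show e (I.toCotangent _) = _
    exact congrArg (fun v => e (I.toCotangent v)) (Subtype.ext hu.symm)
  have hδI : ∀ u : I, δ u = e (I.toCotangent u) := fun u =>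
    hδ u u (by rw [(hmemI u).1 u.2, map_zero, sub_zero])
  have hδx : ∀ i, δ (xI i : S) = Pi.single i 1 := fun i => by rw [hδI, hxI, e.apply_symm_apply]
  let L : (Fin d → R) →ₗ[R] MvPolynomial (Fin d) R := Fintype.linearCombination R X
  have hLJ : ∀ v, L v ∈ J := fun v => by
    simp only [L, Fintype.linearCombination_apply]
    exact Ideal.sum_mem _ fun i _ => Submodule.smul_of_tower_mem _ _
      (Ideal.subset_span ⟨i, rfl⟩)
  have hLX : ∀ i, L (Pi.single i 1) = X i := fun i => by
    rw [Fintype.linearCombination_apply_single, one_smul]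
  -- the first order inverse
  have hδmul : ∀ s t : S, δ (s * t) = σ s • δ t + σ t • δ s := by
    intro s t
    have hprod : (s - algebraMap R S (σ s)) * (t - algebraMap R S (σ t)) ∈ I ^ 2 := by
      rw [pow_two]; exact Ideal.mul_mem_mul (hσI s) (hσI t)
    have h0 : δ ((s - algebraMap R S (σ s)) * (t - algebraMap R S (σ t))) = 0 := by
      rw [hδI ⟨_, Ideal.pow_le_self (by norm_num) hprod⟩,
        (I.toCotangent_eq_zero _).2 hprod, map_zero]
    have h1 : ∀ r, δ (algebraMap R S r) = 0 := fun r => by
      rw [hδ _ 0 (by simp), map_zero, map_zero]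
    have : (s - algebraMap R S (σ s)) * (t - algebraMap R S (σ t)) =
        s * t - σ s • t - σ t • s + algebraMap R S (σ s * σ t) := by
      rw [Algebra.smul_def, Algebra.smul_def, map_mul]; ring
    rw [this, map_add, map_sub, map_sub, map_smul, map_smul, h1, add_zero] at h0
    rw [← sub_eq_zero, ← h0]; abel
  have hσ1 : σ 1 = 1 := map_one σ
  have hδ1 : δ 1 = 0 := by
    have := hδmul 1 1
    rw [one_mul, hσ1, one_smul] at this
    exact left_eq_add.1 this
  let ψ₂ : S →ₐ[R] MvPolynomial (Fin d) R ⧸ J ^ 2 :=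
    AlgHom.ofLinearMap ((Ideal.Quotient.mkₐ R (J ^ 2)).toLinearMap ∘ₗ
      (Algebra.linearMap R _ ∘ₗ σ.toLinearMap + L ∘ₗ δ))
      (by simp [hδ1]) (fun s t => by
        show Ideal.Quotient.mk (J ^ 2) (algebraMap R _ (σ (s * t)) + L (δ (s * t))) =
          Ideal.Quotient.mk (J ^ 2) (algebraMap R _ (σ s) + L (δ s)) *
            Ideal.Quotient.mk (J ^ 2) (algebraMap R _ (σ t) + L (δ t))
        rw [← map_mul (Ideal.Quotient.mk (J ^ 2)), Ideal.Quotient.eq, hδmul, map_add L, map_smul,
          map_smul]
        have h2 : L (δ s) * L (δ t) ∈ J ^ 2 := by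
          rw [pow_two]; exact Ideal.mul_mem_mul (hLJ _) (hLJ _)
        convert neg_mem h2 using 1
        simp only [Algebra.smul_def, map_mul]
        ring)
  have hψ₂ : ∀ s, ψ₂ s = Ideal.Quotient.mk (J ^ 2) (algebraMap R _ (σ s) + L (δ s)) := fun s => rfl
  have hβmk : ∀ u : S, ∃ p, u - β p ∈ I := fun u => ⟨C (σ u), by simpa [β] using hσI u⟩
  have hIgen : I ≤ J.map β ⊔ I ^ 2 := by
    intro u hu
    have hsum : e (I.toCotangent ⟨u, hu⟩) = e (I.toCotangent (∑ i, δ u i • xI i)) := by
      rw [map_sum, map_sum, ← hδI ⟨u, hu⟩]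
      simp_rw [LinearMap.map_smul_of_tower, map_smul, hxI, e.apply_symm_apply]
      exact pi_eq_sum_univ' (δ u)
    have h2 := I.toCotangent_eq.1 (e.injective hsum)
    have hu' : u = ((∑ i, δ u i • xI i : I) : S) + (u - ((∑ i, δ u i • xI i : I) : S)) := by ring
    rw [hu']
    refine Submodule.add_mem_sup ?_ h2
    rw [AddSubmonoidClass.coe_finset_sum]
    refine Ideal.sum_mem _ fun i _ => ?_
    rw [Submodule.coe_smul_of_tower, Algebra.smul_def]
    have hXi : (X i : MvPolynomial (Fin d) R) ∈ J := Ideal.subset_span ⟨i, rfl⟩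
    exact Ideal.mul_mem_left _ _ (by simpa [β] using Ideal.mem_map_of_mem β hXi)
  have hIn : ∀ n, I ^ n ≤ (J ^ n).map β ⊔ I ^ (n + 1) := by
    intro n
    induction n with
    | zero => simp [Ideal.one_eq_top, Ideal.map_top]
    | succ n ih =>
      rw [Ideal.map_pow] at ih ⊢
      have hJ' : J.map β ≤ I := Ideal.map_le_iff_le_comap.2 hJI
      calc I ^ (n + 1) = I ^ n * I := pow_succ _ _
        _ ≤ ((J.map β) ^ n ⊔ I ^ (n + 1)) * (J.map β ⊔ I ^ 2) := Ideal.mul_mono ih hIgen
        _ ≤ _ := by
          rw [Ideal.sup_mul, Ideal.mul_sup]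
          refine sup_le (sup_le ?_ ?_) ?_
          · rw [← pow_succ]; exact le_sup_left
          · refine le_trans ?_ le_sup_right
            rw [show n + 1 + 1 = n + 2 by omega, pow_add I n 2]
            exact Ideal.mul_mono_left (Ideal.pow_right_mono hJ' n)
          · refine le_trans ?_ le_sup_right
            rw [pow_succ I (n + 1)]
            exact Ideal.mul_mono_right (sup_le hJ' (Ideal.pow_le_self two_ne_zero))
  have happrox : ∀ (n : ℕ) (s : S), ∃ p, s - β p ∈ I ^ n := by
    intro n
    induction n with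
    | zero => intro s; exact ⟨0, by simp⟩
    | succ n ih =>
      have hmap : ∀ v ∈ (J ^ n).map β, ∃ q, v - β q ∈ I ^ (n + 1) := by
        intro v hv
        induction hv using Submodule.span_induction with
        | mem v hv => obtain ⟨q, -, rfl⟩ := hv; exact ⟨q, by simp⟩
        | zero => exact ⟨0, by simp⟩
        | add v w _ _ hv hw =>
          obtain ⟨a, ha⟩ := hv; obtain ⟨b, hb⟩ := hw
          exact ⟨a + b, by rw [map_add, add_sub_add_comm]; exact add_mem ha hb⟩
        | smul c v hv' hv =>
          obtain ⟨q, hq⟩ := hv; obtain ⟨q', hq'⟩ := hβmk c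
          refine ⟨q' * q, ?_⟩
          have hvI : v ∈ I ^ n := Ideal.map_le_iff_le_comap.2 (hle n) hv'
          have : c • v - β (q' * q) = (c - β q') * v + β q' * (v - β q) := by
            rw [smul_eq_mul, map_mul]; ring
          rw [this]
          exact add_mem (by rw [pow_succ']; exact Ideal.mul_mem_mul hq' hvI)
            (Ideal.mul_mem_left _ _ hq)
      intro s
      obtain ⟨p, hp⟩ := ih s
      obtain ⟨v, hv, w, hw, hvw⟩ := Submodule.mem_sup.1 (hIn n hp)
      obtain ⟨q, hq⟩ := hmap v hv
      refine ⟨p + q, ?_⟩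
      have : s - β (p + q) = (v - β q) + w := by rw [map_add, sub_add_eq_sub_sub, ← hvw]; ring
      rw [this]; exact add_mem hq hw
  have hbij2 : ∀ n, 2 ≤ n → Function.Bijective (Ideal.quotientMapₐ (I ^ n) β (hle n)) := by
    intro n hn
    refine ⟨?_, fun y => ?_⟩
    · let Jn : Ideal (MvPolynomial (Fin d) R ⧸ J ^ n) := J.map (Ideal.Quotient.mk (J ^ n))
      let g := Ideal.Quotient.factorₐ R (Ideal.pow_le_pow_right hn : J ^ n ≤ J ^ 2)
      have hJn : Jn ^ n = ⊥ := by rw [← Ideal.map_pow, Ideal.map_quotient_self]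
      have hker : RingHom.ker g.toRingHom = Jn ^ 2 := by
        show RingHom.ker (Ideal.Quotient.factor (Ideal.pow_le_pow_right hn : J ^ n ≤ J ^ 2)) = _
        rw [Ideal.Quotient.factor_ker, Ideal.map_pow]
      have hnil : IsNilpotent (RingHom.ker g.toRingHom) :=
        ⟨n, by rw [hker, ← pow_mul, mul_comm, pow_mul, hJn]; simp [pow_two]⟩
      have hgsurj : Function.Surjective g :=
        Ideal.Quotient.factor_surjective (Ideal.pow_le_pow_right hn)
      let ψ : S →ₐ[R] MvPolynomial (Fin d) R ⧸ J ^ n :=
        Algebra.FormallySmooth.liftOfSurjective ψ₂ g hgsurj hnil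
      have hψ : ∀ s, ψ s - Ideal.Quotient.mk (J ^ n) (algebraMap R _ (σ s) + L (δ s)) ∈ Jn ^ 2 :=
        fun s => by
          rw [← hker, RingHom.mem_ker, map_sub, sub_eq_zero]
          exact (Algebra.FormallySmooth.liftOfSurjective_apply ψ₂ g hgsurj hnil s).trans (hψ₂ s)
      have hψI : I ≤ Jn.comap ψ := fun u hu => by
        show ψ u ∈ Jn
        have h := hψ u
        rw [(hmemI u).1 hu, map_zero, zero_add] at h
        simpa using add_mem (Ideal.pow_le_self two_ne_zero h) (Ideal.mem_map_of_mem _ (hLJ (δ u)))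
      have hψn : ∀ u ∈ I ^ n, ψ u = 0 := fun u hu => by
        have h' : ψ u ∈ Jn ^ n := ((Ideal.pow_right_mono hψI n).trans (Ideal.le_comap_pow _ n)) hu
        rwa [hJn, Ideal.mem_bot] at h'
      let ψb : S ⧸ I ^ n →ₐ[R] MvPolynomial (Fin d) R ⧸ J ^ n := Ideal.Quotient.liftₐ _ ψ hψn
      let h := ψb.comp (Ideal.quotientMapₐ (I ^ n) β (hle n))
      have hmk : ∀ p, h (Ideal.Quotient.mk (J ^ n) p) = ψ (β p) := fun p => rfl
      have hX : ∀ i, h (Ideal.Quotient.mk (J ^ n) (X i)) - Ideal.Quotient.mk (J ^ n) (X i) ∈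
          Jn ^ 2 := fun i => by
        have h' := hψ (xI i : S)
        rw [(hmemI _).1 (xI i).2, map_zero, zero_add, hδx, hLX] at h'
        rw [hmk]; simpa [β] using h'
      have h0 : ∀ q, h q - q ∈ Jn := by
        intro q
        obtain ⟨p, rfl⟩ := Ideal.Quotient.mk_surjective q
        induction p using MvPolynomial.induction_on with
        | C a =>
          rw [← algebraMap_eq, Ideal.Quotient.mk_algebraMap, AlgHom.commutes, sub_self]
          exact zero_mem _
        | add p q hp hq => rw [map_add, map_add, add_sub_add_comm]; exact add_mem hp hq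
        | mul_X p i hp =>
          have hm : Ideal.Quotient.mk (J ^ n) (X i) ∈ Jn :=
            Ideal.mem_map_of_mem _ (Ideal.subset_span ⟨i, rfl⟩)
          rw [map_mul, map_mul]
          refine sub_mem (Ideal.mul_mem_left _ _ ?_) (Ideal.mul_mem_left _ _ hm)
          simpa using add_mem (Ideal.pow_le_self two_ne_zero (hX i)) hm
      have h1 : ∀ q ∈ Jn, h q - q ∈ Jn ^ 2 := by
        intro q hq
        rw [show Jn = Ideal.span (Ideal.Quotient.mk (J ^ n) '' Set.range X) from
          Ideal.map_span _ _] at hq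
        induction hq using Submodule.span_induction with
        | mem q hq => obtain ⟨_, ⟨i, rfl⟩, rfl⟩ := hq; exact hX i
        | zero => simp
        | add p q _ _ hp hq => rw [map_add, add_sub_add_comm]; exact add_mem hp hq
        | smul a q hq' hq =>
          have hq'' : q ∈ Jn := (Ideal.map_span _ _).ge hq'
          have : h (a • q) - a • q = h a * (h q - q) + (h a - a) * q := by
            rw [smul_eq_mul, map_mul]; ring
          rw [this]
          exact add_mem (Ideal.mul_mem_left _ _ hq)
            (by rw [pow_two]; exact Ideal.mul_mem_mul (h0 a) hq'')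
      exact Function.Injective.of_comp (f := ψb)
        (bijective_of_nilpotent_filtration Jn n hJn h h0 h1).1
    · obtain ⟨s, rfl⟩ := Ideal.Quotient.mk_surjective y
      obtain ⟨p, hp⟩ := happrox n s
      exact ⟨Ideal.Quotient.mk _ p, (Ideal.Quotient.eq.2 hp).symm⟩
  have hbij : ∀ n, Function.Bijective (Ideal.quotientMapₐ (I ^ n) β (hle n)) := by
    intro n
    refine ⟨?_, fun y => ?_⟩
    · rw [injective_iff_map_eq_zero]
      intro q hq
      obtain ⟨p, rfl⟩ := Ideal.Quotient.mk_surjective q
      have hp : β p ∈ I ^ n := Ideal.Quotient.eq_zero_iff_mem.1 hq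
      rcases le_or_gt 2 n with hn | hn
      · exact (injective_iff_map_eq_zero _).1 (hbij2 n hn).1 _ hq
      interval_cases n
      · simp [Ideal.Quotient.eq_zero_iff_mem]
      · rw [pow_one, hmemI] at hp
        rw [Ideal.Quotient.eq_zero_iff_mem, pow_one]
        have hc : σ (β p) = constantCoeff p := by
          rw [show σ (β p) = aeval (fun i => σ (xI i : S)) p from comp_aeval_apply _ _ _,
            show (fun i => σ (xI i : S)) = 0 from funext fun i => (hmemI _).1 (xI i).2,
            aeval_zero, Algebra.algebraMap_self, RingHom.id_apply]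
        rw [hc] at hp
        have hC : ∀ r : MvPolynomial (Fin d) R, r - C (constantCoeff r) ∈ J := by
          intro r
          induction r using MvPolynomial.induction_on with
          | C a => simp
          | add a b ha hb => rw [map_add, map_add, add_sub_add_comm]; exact add_mem ha hb
          | mul_X a i _ => simpa using Ideal.mul_mem_left _ a (Ideal.subset_span ⟨i, rfl⟩ : X i ∈ J)
        simpa [hp] using hC p
    · obtain ⟨s, rfl⟩ := Ideal.Quotient.mk_surjective y
      obtain ⟨p, hp⟩ := happrox n s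
      exact ⟨Ideal.Quotient.mk _ p, (Ideal.Quotient.eq.2 hp).symm⟩
  obtain ⟨E⟩ := Groth.Agent.Algebraize7.nonempty_completion_algEquiv J I β hle hbij
  exact ⟨E.symm.trans ((MvPowerSeries.toAdicCompletionAlgEquiv (Fin d) R).restrictScalars R).symm⟩

end SmoothSect
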